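import Mathlib

/-!
# Projective modules along a ring map with dense image

`L → L'` together with an open subring `L₀' ⊆ L'` and `τ` (a unit of `L'`) such that the image of
`L` is dense and elements congruent to `1` modulo `τ L₀'` are units: finitely generated projective
modules descend injectively, and stably free modules descend.
-/

set_option autoImplicit false
universe u
open TensorProduct Matrix

namespace Groth.Agent.DenseProj

variable {L L' : Type u} [CommRing L] [CommRing L'] [Algebra L L']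

/-- The data of an open subring with a topologically nilpotent unit. -/
structure Data (L L' : Type u) [CommRing L] [CommRing L'] [Algebra L L'] where
  S : Subring L'
  τ : L'
  mem : τ ∈ S
  unit : IsUnit τ
  exh : ∀ x : L', ∃ k : ℕ, τ ^ k * x ∈ S
  dense : ∀ (x : L') (N : ℕ), ∃ y : L, ∃ z ∈ S, algebraMap L L' y - x = τ ^ N * z
  unitL : ∀ x : L, (∃ z ∈ S, algebraMap L L' x - 1 = τ * z) → IsUnit x
  unitL' : ∀ x : L', (∃ z ∈ S, x - 1 = τ * z) → IsUnit x

variable (d : Data L L')

/-- All entries lie in `τ ^ N L₀'`. -/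
def Data.In (N : ℕ) {m n : Type} (D : Matrix m n L') : Prop :=
  ∀ i j, ∃ z ∈ d.S, D i j = d.τ ^ N * z

/-- `τ ^ k` clears the denominators of all entries. -/
def Data.Bnd (k : ℕ) {m n : Type} (A : Matrix m n L') : Prop :=
  ∀ i j, d.τ ^ k * A i j ∈ d.S

lemma Data.exists_bnd {m n : Type} [Fintype m] [Fintype n] (A : Matrix m n L') :
    ∃ k, d.Bnd k A := by
  classical
  choose k hk using fun ij : m × n => d.exh (A ij.1 ij.2)
  refine ⟨Finset.univ.sup k, fun i j => ?_⟩
  obtain ⟨c, hc⟩ := Nat.exists_eq_add_of_le (Finset.le_sup (f := k) (Finset.mem_univ (i, j)))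
  rw [hc, pow_add, mul_comm (d.τ ^ _) (d.τ ^ c), mul_assoc]
  exact d.S.mul_mem (d.S.pow_mem d.mem c) (hk (i, j))

lemma Data.In.mono {d : Data L L'} {N M : ℕ} (h : M ≤ N) {m n : Type} {D : Matrix m n L'}
    (hD : d.In N D) : d.In M D := by
  intro i j
  obtain ⟨z, hz, he⟩ := hD i j
  obtain ⟨c, rfl⟩ := Nat.exists_eq_add_of_le h
  exact ⟨d.τ ^ c * z, d.S.mul_mem (d.S.pow_mem d.mem c) hz, by rw [he, pow_add, mul_assoc]⟩

lemma Data.In.add {d : Data L L'} {N : ℕ} {m n : Type} {D E : Matrix m n L'}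
    (hD : d.In N D) (hE : d.In N E) : d.In N (D + E) := by
  intro i j
  obtain ⟨z, hz, he⟩ := hD i j
  obtain ⟨w, hw, hf⟩ := hE i j
  exact ⟨z + w, d.S.add_mem hz hw, by rw [Matrix.add_apply, he, hf, mul_add]⟩

lemma Data.In.neg {d : Data L L'} {N : ℕ} {m n : Type} {D : Matrix m n L'}
    (hD : d.In N D) : d.In N (-D) := by
  intro i j
  obtain ⟨z, hz, he⟩ := hD i j
  exact ⟨-z, d.S.neg_mem hz, by rw [Matrix.neg_apply, he, mul_neg]⟩

lemma Data.In.mul_left {d : Data L L'} {N k : ℕ} {m n p : Type} [Fintype n]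
    {A : Matrix m n L'} {D : Matrix n p L'}
    (hA : d.Bnd k A) (hD : d.In (k + N) D) : d.In N (A * D) := by
  intro i j
  choose z hz he using fun l => hD l j
  refine ⟨∑ l, d.τ ^ k * A i l * z l, sum_mem fun l _ => d.S.mul_mem (hA i l) (hz l), ?_⟩
  rw [Matrix.mul_apply, Finset.mul_sum]
  refine Finset.sum_congr rfl fun l _ => ?_
  rw [he l, pow_add]; ring

lemma Data.In.mul_right {d : Data L L'} {N k : ℕ} {m n p : Type} [Fintype n]
    {A : Matrix n p L'} {D : Matrix m n L'}
    (hA : d.Bnd k A) (hD : d.In (k + N) D) : d.In N (D * A) := by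
  intro i j
  choose z hz he using fun l => hD i l
  refine ⟨∑ l, d.τ ^ k * A l j * z l, sum_mem fun l _ => d.S.mul_mem (hA l j) (hz l), ?_⟩
  rw [Matrix.mul_apply, Finset.mul_sum]
  refine Finset.sum_congr rfl fun l _ => ?_
  rw [he l, pow_add]; ring

lemma Data.exists_approx {m n : Type} (X : Matrix m n L') (N : ℕ) :
    ∃ Y : Matrix m n L, d.In N (Y.map (algebraMap L L') - X) := by
  choose y z hz he using fun i j => d.dense (X i j) N
  exact ⟨Matrix.of y, fun i j => ⟨z i j, hz i j, by simpa using he i j⟩⟩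

lemma Data.det_one_add {n : Type} [Fintype n] [DecidableEq n] {D : Matrix n n L'}
    (hD : d.In 1 D) : ∃ z ∈ d.S, (1 + D).det - 1 = d.τ * z := by
  choose z hz he using hD
  let Z : Matrix n n d.S := Matrix.of fun i j => ⟨z i j, hz i j⟩
  let t : d.S := ⟨d.τ, d.mem⟩
  have hmap : d.S.subtype.mapMatrix (1 + t • Z) = 1 + D := by
    rw [map_add, map_one]
    congr 1
    ext i j
    simp [Z, t, he i j]
  have hq : (Ideal.Quotient.mk (Ideal.span {t})).mapMatrix (1 + t • Z) = 1 := by
    rw [map_add, map_one]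
    have : (Ideal.Quotient.mk (Ideal.span {t})).mapMatrix (t • Z) = 0 := by
      ext i j
      rw [RingHom.mapMatrix_apply, Matrix.map_apply, Matrix.zero_apply, Ideal.Quotient.eq_zero_iff_mem,
        Matrix.smul_apply, smul_eq_mul]
      exact Ideal.mem_span_singleton.mpr (dvd_mul_right _ _)
    rw [this, add_zero]
  have h0 : (1 + t • Z).det - 1 ∈ Ideal.span {t} := by
    rw [← Ideal.Quotient.eq_zero_iff_mem, map_sub, map_one, RingHom.map_det, hq, det_one, sub_self]
  obtain ⟨c, hc⟩ := Ideal.mem_span_singleton.mp h0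
  refine ⟨c, c.2, ?_⟩
  rw [← hmap, ← RingHom.map_det]
  exact congr_arg Subtype.val hc

lemma Data.isUnit_of_sub_one {n : Type} [Fintype n] [DecidableEq n] {Y : Matrix n n L}
    (hY : d.In 1 (Y.map (algebraMap L L') - 1)) : IsUnit Y := by
  obtain ⟨z, hz, he⟩ := d.det_one_add hY
  rw [add_sub_cancel, ← RingHom.mapMatrix_apply, ← RingHom.map_det] at he
  exact (Matrix.isUnit_iff_isUnit_det _).mpr (d.unitL _ ⟨z, hz, he⟩)

lemma Data.isUnit_of_sub_one' {n : Type} [Fintype n] [DecidableEq n] {Y : Matrix n n L'}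
    (hY : d.In 1 (Y - 1)) : IsUnit Y := by
  obtain ⟨z, hz, he⟩ := d.det_one_add hY
  rw [add_sub_cancel] at he
  exact (Matrix.isUnit_iff_isUnit_det _).mpr (d.unitL' _ ⟨z, hz, he⟩)

/-- The base change of a map of free modules. -/
lemma piScalarRight_baseChange {n m : ℕ} (f : (Fin n → L) →ₗ[L] (Fin m → L)) :
    (piScalarRight L L' L' (Fin m)).toLinearMap ∘ₗ f.baseChange L' ∘ₗ
      (piScalarRight L L' L' (Fin n)).symm.toLinearMap =
      Matrix.toLin' ((LinearMap.toMatrix' f).map (algebraMap L L')) := by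
  refine LinearMap.pi_ext' fun j => LinearMap.ext_ring ?_
  ext i
  simp [LinearMap.toMatrix'_apply, Algebra.smul_def, Pi.single_apply]

lemma mapMat_mul {m n p : Type} [Fintype n] (A : Matrix m n L) (B : Matrix n p L) :
    (A * B).map (algebraMap L L') =
      A.map (algebraMap L L') * B.map (algebraMap L L') := Matrix.map_mul

lemma toMatrix'_mulVec' {n m : ℕ} (f : (Fin n → L) →ₗ[L] (Fin m → L)) (v : Fin n → L) :
    LinearMap.toMatrix' f *ᵥ v = f v := by
  rw [← Matrix.toLin'_apply, Matrix.toLin'_toMatrix']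

/-- An endomorphism of a retract of `L ^ n` is bijective if its matrix, completed by `1 - e`, is
invertible. -/
lemma bijective_of {P : Type*} [AddCommGroup P] [Module L P] {n : ℕ}
    (i : P →ₗ[L] (Fin n → L)) (p : (Fin n → L) →ₗ[L] P) (h : ∀ x, p (i x) = x)
    (g : P →ₗ[L] P) (G : Matrix (Fin n) (Fin n) L)
    (hl : LinearMap.toMatrix' (i ∘ₗ p) * G = G) (hr : G * LinearMap.toMatrix' (i ∘ₗ p) = G)
    (hg : ∀ x, i (g x) = G *ᵥ i x)
    (hE : IsUnit (1 - LinearMap.toMatrix' (i ∘ₗ p) + G)) : Function.Bijective g := by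
  set e := LinearMap.toMatrix' (i ∘ₗ p) with he
  have hev : ∀ v, e *ᵥ v = i (p v) := fun v => by
    rw [he, ← Matrix.toLin'_apply, Matrix.toLin'_toMatrix', LinearMap.comp_apply]
  have hei : ∀ x, e *ᵥ i x = i x := fun x => by rw [hev, h]
  obtain ⟨Q, hQ⟩ := hE.exists_left_inv
  obtain ⟨Q', hQ'⟩ := hE.exists_right_inv
  have hgE : ∀ x, i (g x) = (1 - e + G) *ᵥ i x := fun x => by
    rw [hg, Matrix.add_mulVec, Matrix.sub_mulVec, one_mulVec, hei, sub_self, zero_add]
  refine ⟨fun x y hxy => ?_, fun x => ?_⟩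
  · have := congr_arg (fun v => Q *ᵥ v) ((hgE x).symm.trans ((congr_arg i hxy).trans (hgE y)))
    simp only [mulVec_mulVec, hQ, one_mulVec] at this
    rw [← h x, this, h]
  · have hee : e * e = e := by
      rw [he, ← LinearMap.toMatrix'_comp]; congr 1; ext v j; simp [h]
    have hc : (1 - e + G) * e = e * (1 - e + G) := by
      rw [Matrix.add_mul, Matrix.mul_add, Matrix.sub_mul, Matrix.mul_sub, Matrix.one_mul,
        Matrix.mul_one, hee, hl, hr]
    refine ⟨p (Q' *ᵥ i x), ?_⟩
    have : i (g (p (Q' *ᵥ i x))) = i x := by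
      rw [hgE, ← hev, mulVec_mulVec, hc, mulVec_mulVec, Matrix.mul_assoc, hQ', Matrix.mul_one, hei]
    rw [← h (g _), this, h]

theorem nonempty_linearEquiv (d : Data L L')
    (M N : Type u) [AddCommGroup M] [Module L M] [Module.Finite L M] [Module.Projective L M]
    [AddCommGroup N] [Module L N] [Module.Finite L N] [Module.Projective L N]
    (u : L' ⊗[L] M ≃ₗ[L'] L' ⊗[L] N) : Nonempty (M ≃ₗ[L] N) := by
  obtain ⟨n, pM, iM, -, -, hM⟩ := Module.Finite.exists_comp_eq_id_of_projective L M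
  obtain ⟨m, pN, iN, -, -, hN⟩ := Module.Finite.exists_comp_eq_id_of_projective L N
  have hM' : ∀ x, pM (iM x) = x := fun x => LinearMap.congr_fun hM x
  have hN' : ∀ x, pN (iN x) = x := fun x => LinearMap.congr_fun hN x
  set e := LinearMap.toMatrix' (iM ∘ₗ pM) with hedef
  set f := LinearMap.toMatrix' (iN ∘ₗ pN) with hfdef
  have hee : e * e = e := by
    rw [hedef, ← LinearMap.toMatrix'_comp]
    congr 1; ext x i; simp [hM']
  have hff : f * f = f := by
    rw [hfdef, ← LinearMap.toMatrix'_comp]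
    congr 1; ext x i; simp [hN']
  set iM' := (piScalarRight L L' L' (Fin n)).toLinearMap ∘ₗ iM.baseChange L' with hiM'
  set pM' := pM.baseChange L' ∘ₗ (piScalarRight L L' L' (Fin n)).symm.toLinearMap with hpM'
  set iN' := (piScalarRight L L' L' (Fin m)).toLinearMap ∘ₗ iN.baseChange L' with hiN'
  set pN' := pN.baseChange L' ∘ₗ (piScalarRight L L' L' (Fin m)).symm.toLinearMap with hpN'
  have rM : ∀ x, pM' (iM' x) = x := fun x => by
    simp only [hiM', hpM', LinearMap.comp_apply, LinearEquiv.coe_coe, LinearEquiv.symm_apply_apply,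
      ← LinearMap.comp_apply (pM.baseChange L') (iM.baseChange L'), ← LinearMap.baseChange_comp,
      hM, LinearMap.baseChange_id, LinearMap.id_apply]
  have rN : ∀ x, pN' (iN' x) = x := fun x => by
    simp only [hiN', hpN', LinearMap.comp_apply, LinearEquiv.coe_coe, LinearEquiv.symm_apply_apply,
      ← LinearMap.comp_apply (pN.baseChange L') (iN.baseChange L'), ← LinearMap.baseChange_comp,
      hN, LinearMap.baseChange_id, LinearMap.id_apply]
  have he' : LinearMap.toMatrix' (iM' ∘ₗ pM') = e.map (algebraMap L L') := by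
    rw [← LinearMap.toMatrix'_toLin' (e.map (algebraMap L L')), hedef, ← piScalarRight_baseChange,
      LinearMap.baseChange_comp]
    rfl
  have hf' : LinearMap.toMatrix' (iN' ∘ₗ pN') = f.map (algebraMap L L') := by
    rw [← LinearMap.toMatrix'_toLin' (f.map (algebraMap L L')), hfdef, ← piScalarRight_baseChange,
      LinearMap.baseChange_comp]
    rfl
  set U := LinearMap.toMatrix' (iN' ∘ₗ u.toLinearMap ∘ₗ pM') with hU
  set V := LinearMap.toMatrix' (iM' ∘ₗ u.symm.toLinearMap ∘ₗ pN') with hV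
  have hVU : V * U = e.map (algebraMap L L') := by
    rw [← he', hU, hV, ← LinearMap.toMatrix'_comp]; congr 1; ext x i; simp [rN]
  have hUe : U * e.map (algebraMap L L') = U := by
    rw [← he', hU, ← LinearMap.toMatrix'_comp]; congr 1; ext x i; simp [rM]
  have hfU : f.map (algebraMap L L') * U = U := by
    rw [← hf', hU, ← LinearMap.toMatrix'_comp]; congr 1; ext x i; simp [rN]
  have hUV : U * V = f.map (algebraMap L L') := by
    rw [← hf', hU, hV, ← LinearMap.toMatrix'_comp]; congr 1; ext x i; simp [rM]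
  have hVf : V * f.map (algebraMap L L') = V := by
    rw [← hf', hV, ← LinearMap.toMatrix'_comp]; congr 1; ext x i; simp [rN]
  have heV : e.map (algebraMap L L') * V = V := by
    rw [← he', hV, ← LinearMap.toMatrix'_comp]; congr 1; ext x i; simp [rM]
  -- approximate `U`
  obtain ⟨kV, hkV⟩ := d.exists_bnd V
  obtain ⟨ke, hke⟩ := d.exists_bnd (e.map (algebraMap L L'))
  obtain ⟨kf, hkf⟩ := d.exists_bnd (f.map (algebraMap L L'))
  obtain ⟨Y, hY⟩ := d.exists_approx U (kV + (ke + (kf + 1)))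
  set D := Y.map (algebraMap L L') - U with hD
  have s1 : d.In 1 (V * D * e.map (algebraMap L L')) :=
    Data.In.mul_right hke (Data.In.mul_left hkV (hY.mono (by omega)))
  have s2 : d.In 1 (f.map (algebraMap L L') * D * V) :=
    Data.In.mul_right hkV (Data.In.mul_left hkf (hY.mono (by omega)))
  set P := f.map (algebraMap L L') * Y.map (algebraMap L L') * e.map (algebraMap L L') with hP
  obtain ⟨kP, hkP⟩ := d.exists_bnd P
  obtain ⟨Z, hZ⟩ := d.exists_approx V (kP + (ke + (kf + 1)))
  set D' := Z.map (algebraMap L L') - V with hD'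
  have s3 : d.In 1 (e.map (algebraMap L L') * D' * P) :=
    Data.In.mul_right hkP (Data.In.mul_left hke (hZ.mono (by omega)))
  have s4 : d.In 1 (P * D' * f.map (algebraMap L L')) :=
    Data.In.mul_right hkf (Data.In.mul_left hkP (hZ.mono (by omega)))
  set Y' := f * Y * e with hY'
  set Z' := e * Z * f with hZ'
  have q1 : Y'.map (algebraMap L L') = P := by rw [hY', hP, mapMat_mul, mapMat_mul]
  have q2 : Z'.map (algebraMap L L') = e.map (algebraMap L L') * Z.map (algebraMap L L') * f.map (algebraMap L L') := by rw [hZ', mapMat_mul, mapMat_mul]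
  have hfP : f.map (algebraMap L L') * P = P := by
    rw [hP, ← Matrix.mul_assoc, ← Matrix.mul_assoc, ← mapMat_mul f f, hff]
  have hPe : P * e.map (algebraMap L L') = P := by
    rw [hP, Matrix.mul_assoc, ← mapMat_mul e e, hee]
  have eZ : (Z' * Y').map (algebraMap L L') - e.map (algebraMap L L') = e.map (algebraMap L L') * D' * P + V * D * e.map (algebraMap L L') := by
    have a1 : e.map (algebraMap L L') * V * P = V * Y.map (algebraMap L L') * e.map (algebraMap L L') := by
      rw [heV, hP, ← Matrix.mul_assoc, ← Matrix.mul_assoc, hVf]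
    have a2 : V * U * e.map (algebraMap L L') = e.map (algebraMap L L') := by rw [hVU, ← mapMat_mul e e, hee]
    rw [mapMat_mul, q1, q2, Matrix.mul_assoc _ (f.map (algebraMap L L')) P, hfP, hD', hD, Matrix.mul_sub,
      Matrix.sub_mul, Matrix.mul_sub V, Matrix.sub_mul, a1, a2]
    abel
  have eY : (Y' * Z').map (algebraMap L L') - f.map (algebraMap L L') = P * D' * f.map (algebraMap L L') + f.map (algebraMap L L') * D * V := by
    have a1 : P * V * f.map (algebraMap L L') = f.map (algebraMap L L') * Y.map (algebraMap L L') * V := by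
      rw [Matrix.mul_assoc, hVf, hP, Matrix.mul_assoc, heV]
    have a2 : f.map (algebraMap L L') * U * V = f.map (algebraMap L L') := by rw [hfU, hUV]
    rw [mapMat_mul, q1, q2, ← Matrix.mul_assoc, ← Matrix.mul_assoc, hPe, hD', hD, Matrix.mul_sub,
      Matrix.sub_mul, Matrix.mul_sub (f.map (algebraMap L L')), Matrix.sub_mul, a1, a2]
    abel
  have hE1 : IsUnit (1 - e + Z' * Y') := by
    refine d.isUnit_of_sub_one ?_
    have : (1 - e + Z' * Y').map (algebraMap L L') - 1 = (Z' * Y').map (algebraMap L L') - e.map (algebraMap L L') := by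
      simp only [← RingHom.mapMatrix_apply, map_add, map_sub, map_one]; abel
    rw [this, eZ]
    exact s3.add s1
  have hE2 : IsUnit (1 - f + Y' * Z') := by
    refine d.isUnit_of_sub_one ?_
    have : (1 - f + Y' * Z').map (algebraMap L L') - 1 = (Y' * Z').map (algebraMap L L') - f.map (algebraMap L L') := by
      simp only [← RingHom.mapMatrix_apply, map_add, map_sub, map_one]; abel
    rw [this, eY]
    exact s4.add s2
  let y : M →ₗ[L] N := pN ∘ₗ Matrix.toLin' Y ∘ₗ iM
  let z : N →ₗ[L] M := pM ∘ₗ Matrix.toLin' Z ∘ₗ iN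
  refine ⟨LinearEquiv.ofBijective y ⟨?_, ?_⟩⟩
  · refine Function.Injective.of_comp (f := z) ?_
    refine (bijective_of iM pM hM' (z ∘ₗ y) (Z' * Y') ?_ ?_ ?_ hE1).1
    · rw [hZ', hY']
      simp only [← Matrix.mul_assoc]
      rw [hee]
    · rw [hZ', hY']
      simp only [Matrix.mul_assoc]
      rw [hee]
    · intro x
      simp [y, z, hY', hZ', hedef, hfdef, hM', hN', toMatrix'_mulVec', ← mulVec_mulVec]
  · refine Function.Surjective.of_comp (g := z) ?_
    refine (bijective_of iN pN hN' (y ∘ₗ z) (Y' * Z') ?_ ?_ ?_ hE2).2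
    · rw [hZ', hY']
      simp only [← Matrix.mul_assoc]
      rw [hff]
    · rw [hZ', hY']
      simp only [Matrix.mul_assoc]
      rw [hff]
    · intro x
      simp [y, z, hY', hZ', hedef, hfdef, hM', hN', toMatrix'_mulVec', ← mulVec_mulVec]

theorem exists_stablyFree (d : Data L L')
    (M' : Type u) [AddCommGroup M'] [Module L' M'] {k m : ℕ}
    (Φ : (M' × (Fin k → L')) ≃ₗ[L'] (Fin m → L')) :
    ∃ (M : Type u) (_ : AddCommGroup M) (_ : Module L M), Module.Finite L M ∧
      (∃ n m : ℕ, Nonempty ((M × (Fin n → L)) ≃ₗ[L] (Fin m → L))) ∧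
      Nonempty (L' ⊗[L] M ≃ₗ[L'] M') := by
  set π' := LinearMap.toMatrix' (LinearMap.snd L' M' (Fin k → L') ∘ₗ Φ.symm.toLinearMap) with hπ'
  set s' := LinearMap.toMatrix' (Φ.toLinearMap ∘ₗ LinearMap.inr L' M' (Fin k → L')) with hs'
  have hps : π' * s' = 1 := by
    rw [hπ', hs', ← LinearMap.toMatrix'_comp, ← LinearMap.toMatrix'_id]
    congr 1; ext x i; simp
  obtain ⟨ks, hks⟩ := d.exists_bnd s'
  obtain ⟨π, hπ⟩ := d.exists_approx π' (ks + 1)
  have hd1 : d.In 1 (π.map (algebraMap L L') * s' - 1) := by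
    rw [← hps, ← Matrix.sub_mul]
    exact Data.In.mul_right hks hπ
  obtain ⟨t, ht⟩ := (d.isUnit_of_sub_one' hd1).exists_left_inv
  obtain ⟨kp, hkp⟩ := d.exists_bnd (π.map (algebraMap L L'))
  obtain ⟨s, hs⟩ := d.exists_approx s' (kp + 1)
  have hd2 : IsUnit (π * s) := by
    refine d.isUnit_of_sub_one ?_
    have : (π * s).map (algebraMap L L') - 1 = π.map (algebraMap L L') * (s.map (algebraMap L L') - s') + (π.map (algebraMap L L') * s' - 1) := by
      rw [mapMat_mul, Matrix.mul_sub]; abel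
    rw [this]
    exact (Data.In.mul_left hkp hs).add hd1
  obtain ⟨c, hc⟩ := hd2.exists_right_inv
  obtain ⟨s1, hps1⟩ : ∃ s1 : Matrix (Fin m) (Fin k) L, π * s1 = 1 := ⟨s * c, by rw [← Matrix.mul_assoc, hc]⟩
  have hps1' : ∀ v, π *ᵥ (s1 *ᵥ v) = v := fun v => by rw [mulVec_mulVec, hps1, one_mulVec]
  let K := LinearMap.ker (Matrix.toLin' π)
  let proj : (Fin m → L) →ₗ[L] K := LinearMap.codRestrict K (Matrix.toLin' (1 - s1 * π)) (by
    intro v
    refine LinearMap.mem_ker.mpr ?_
    rw [Matrix.toLin'_apply, Matrix.toLin'_apply, mulVec_mulVec, Matrix.mul_sub, Matrix.mul_one,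
      ← Matrix.mul_assoc, hps1, Matrix.one_mul, sub_self, zero_mulVec])
  have hproj : ∀ x : K, proj x = x := by
    intro x
    refine Subtype.ext ?_
    have hx : π *ᵥ (x : Fin m → L) = 0 := x.2
    show (1 - s1 * π) *ᵥ (x : Fin m → L) = x
    rw [Matrix.sub_mulVec, ← mulVec_mulVec, hx]
    simp
  have hfin : Module.Finite L K := Module.Finite.of_surjective proj fun x => ⟨x, hproj x⟩
  refine ⟨K, inferInstance, inferInstance, hfin, ⟨k, m, ⟨?_⟩⟩, ⟨?_⟩⟩
  · refine LinearEquiv.ofLinear (LinearMap.coprod K.subtype (Matrix.toLin' s1))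
      (LinearMap.prod proj (Matrix.toLin' π)) ?_ ?_
    · ext v i
      simp [proj, Matrix.sub_mulVec, mulVec_mulVec]
    · refine LinearMap.ext fun x => Prod.ext ?_ ?_
      · refine Subtype.ext ?_
        have hx : π *ᵥ (x.1 : Fin m → L) = 0 := x.1.2
        show (1 - s1 * π) *ᵥ ((x.1 : Fin m → L) + s1 *ᵥ x.2) = x.1
        rw [Matrix.sub_mulVec, one_mulVec, ← mulVec_mulVec, Matrix.mulVec_add, hx, hps1', zero_add,
          add_sub_cancel_right]
      · show π *ᵥ ((x.1 : Fin m → L) + s1 *ᵥ x.2) = x.2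
        rw [Matrix.mulVec_add, show π *ᵥ (x.1 : Fin m → L) = 0 from x.1.2, hps1', zero_add]
  · let a : L' ⊗[L] K →ₗ[L'] (Fin m → L') :=
      (piScalarRight L L' L' (Fin m)).toLinearMap ∘ₗ K.subtype.baseChange L'
    let b : (Fin m → L') →ₗ[L'] L' ⊗[L] K :=
      proj.baseChange L' ∘ₗ (piScalarRight L L' L' (Fin m)).symm.toLinearMap
    have hba : ∀ x, b (a x) = x := fun x => by
      have : proj ∘ₗ K.subtype = LinearMap.id := LinearMap.ext hproj
      simp only [a, b, LinearMap.comp_apply, LinearEquiv.coe_coe, LinearEquiv.symm_apply_apply,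
        ← LinearMap.comp_apply (proj.baseChange L') (K.subtype.baseChange L'),
        ← LinearMap.baseChange_comp, this, LinearMap.baseChange_id, LinearMap.id_apply]
    have hab : ∀ v, a (b v) = v - s1.map (algebraMap L L') *ᵥ (π.map (algebraMap L L') *ᵥ v) := fun v => by
      have := LinearMap.congr_fun
        (piScalarRight_baseChange (L' := L') (K.subtype ∘ₗ proj)) v
      rw [LinearMap.baseChange_comp] at this
      refine this.trans ?_
      rw [show K.subtype ∘ₗ proj = Matrix.toLin' (1 - s1 * π) from LinearMap.subtype_comp_codRestrict _ _ _,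
        LinearMap.toMatrix'_toLin', Matrix.toLin'_apply,
        mulVec_mulVec, ← mapMat_mul]
      simp only [← RingHom.mapMatrix_apply, map_sub, map_one, Matrix.sub_mulVec, one_mulVec]
    have hps1'' : π.map (algebraMap L L') * s1.map (algebraMap L L') = 1 := by
      rw [← mapMat_mul, hps1]; simp only [← RingHom.mapMatrix_apply, map_one]
    have hπa : ∀ x, π.map (algebraMap L L') *ᵥ a x = 0 := fun x => by
      rw [← hba x, hab, Matrix.mulVec_sub, mulVec_mulVec, hps1'', one_mulVec, sub_self]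
    have hπ'Φ : ∀ x : M', π' *ᵥ Φ (x, 0) = 0 := fun x => by
      rw [hπ', ← Matrix.toLin'_apply, Matrix.toLin'_toMatrix']; simp
    have hΦ : ∀ v, π' *ᵥ v = 0 → Φ ((Φ.symm v).1, 0) = v := fun v hv => by
      rw [hπ', ← Matrix.toLin'_apply, Matrix.toLin'_toMatrix'] at hv
      simp only [LinearMap.comp_apply, LinearEquiv.coe_coe, LinearMap.snd_apply] at hv
      rw [← hv]; simp
    let F : L' ⊗[L] K →ₗ[L'] M' := LinearMap.fst L' M' (Fin k → L') ∘ₗ Φ.symm.toLinearMap ∘ₗ
      Matrix.toLin' (1 - s' * π') ∘ₗ a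
    let G : M' →ₗ[L'] L' ⊗[L] K := b ∘ₗ Matrix.toLin' (1 - s' * t * π.map (algebraMap L L')) ∘ₗ
      Φ.toLinearMap ∘ₗ LinearMap.inl L' M' (Fin k → L')
    refine LinearEquiv.ofLinear F G ?_ ?_
    · refine LinearMap.ext fun x => ?_
      have h1 : π.map (algebraMap L L') *ᵥ ((1 - s' * t * π.map (algebraMap L L')) *ᵥ Φ (x, 0)) = 0 := by
        rw [mulVec_mulVec, Matrix.mul_sub, Matrix.mul_one, ← Matrix.mul_assoc, ← Matrix.mul_assoc,
          mul_eq_one_comm.mp ht, Matrix.one_mul, sub_self, zero_mulVec]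
      have h2 : (1 - s' * π') *ᵥ ((1 - s' * t * π.map (algebraMap L L')) *ᵥ Φ (x, 0)) = Φ (x, 0) := by
        simp only [Matrix.sub_mulVec, one_mulVec, ← mulVec_mulVec, Matrix.mulVec_sub, hπ'Φ x]
        simp only [mulVec_mulVec, ← Matrix.mul_assoc, hps, Matrix.one_mul, Matrix.mulVec_zero]
        abel
      show (Φ.symm ((1 - s' * π') *ᵥ a (b ((1 - s' * t * π.map (algebraMap L L')) *ᵥ Φ (x, 0))))).1 = x
      rw [hab, h1, Matrix.mulVec_zero, sub_zero, h2, LinearEquiv.symm_apply_apply]
    · refine LinearMap.ext fun z => ?_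
      have h1 : π' *ᵥ ((1 - s' * π') *ᵥ a z) = 0 := by
        rw [mulVec_mulVec, Matrix.mul_sub, Matrix.mul_one, ← Matrix.mul_assoc, hps, Matrix.one_mul,
          sub_self, zero_mulVec]
      have h2 : (1 - s' * t * π.map (algebraMap L L')) *ᵥ ((1 - s' * π') *ᵥ a z) = a z := by
        rw [mulVec_mulVec, Matrix.mul_sub, Matrix.mul_one, ← Matrix.mul_assoc,
          show (1 - s' * t * π.map (algebraMap L L')) * s' = 0 by
            rw [Matrix.sub_mul, Matrix.one_mul, Matrix.mul_assoc, Matrix.mul_assoc, ht,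
              Matrix.mul_one, sub_self],
          Matrix.zero_mul, sub_zero, Matrix.sub_mulVec, one_mulVec, ← mulVec_mulVec, hπa,
          Matrix.mulVec_zero, sub_zero]
      show b ((1 - s' * t * π.map (algebraMap L L')) *ᵥ Φ ((Φ.symm ((1 - s' * π') *ᵥ a z)).1, 0)) = z
      rw [hΦ _ h1, h2, hba]

end Groth.Agent.DenseProj
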